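import Cfsg.Agent.Lib.RuLat.Parity

/-!
# The lattice of the Rudvalis group: no vectors of stored norm 8, the four levels
-/

set_option autoImplicit false
set_option linter.unusedSectionVars false
set_option linter.constructorNameAsVariable false

namespace Cfsg.Agent.Lib.RuLat

open Cfsg.Spor

/-! ### Data of the four levels -/

/-- The test vectors of level 0. -/
def row0 (q : RuIdx) : RuVec := mkV (rows0.getD (ixN q) zeroC)

/-- The test vectors of level 1. -/
def row1 (q : RuIdx) : RuVec := mkV (rows1.getD (ixN q) zeroC)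

/-- The free coordinates of level 0. -/
def F0 : List RuIdx := free0.map ixOf

/-- The free coordinates of level 1. -/
def F1 : List RuIdx := free1.map ixOf

/-- The classification of the words of small weight at level 0. -/
def good0 (v : RuIdx → ZMod 2) : Bool :=
  decide (v = 0 ∨ 8 < wt v ∨ ∃ a b : Fin 7, a < b ∧ ∀ q : RuIdx, v q = 1 ↔ (q.1 = a ∨ q.1 = b))

/-- The classification of the words of small weight at level 1. -/
def good1 (v : RuIdx → ZMod 2) : Bool :=
  decide (v = 0 ∨ 4 < wt v ∨ ∃ a : Fin 7, ∀ q : RuIdx, v q = 1 ↔ q.1 = a)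

theorem dec0_ok : allAssign (fun u => good0 (compl tab0 u)) F0 0 = true := by decide +kernel

theorem dec1_ok : allAssign (fun u => good1 (compl tab1 u)) F1 0 = true := by decide +kernel

theorem tab0_free : ∀ q, q ∈ F0 → tabF tab0 q = [q] := by decide +kernel
theorem tab1_free : ∀ q, q ∈ F1 → tabF tab1 q = [q] := by decide +kernel
theorem tab0_sub : ∀ q, ∀ f ∈ tabF tab0 q, f ∈ F0 := by decide +kernel
theorem tab1_sub : ∀ q, ∀ f ∈ tabF tab1 q, f ∈ F1 := by decide +kernel

/-- The parity of a Gaussian integer, as a computation. -/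
def parB (z : GaussianInt) : ZMod 2 := if (z.re + z.im) % 2 = 0 then 0 else 1

theorem parB_eq (z : GaussianInt) : parB z = par z := by
  unfold parB par
  split_ifs with h
  · exact ((ZMod.intCast_zmod_eq_zero_iff_dvd _ 2).2 (Int.dvd_of_emod_eq_zero h)).symm
  · have h1 : (z.re + z.im) % 2 = 1 := by omega
    have h2 : ((z.re + z.im : ℤ) : ZMod 2) = ((1 : ℤ) : ZMod 2) :=
      (ZMod.intCast_eq_intCast_iff _ _ 2).2 h1
    rw [h2]
    rfl

theorem row0_par : ∀ q, q ∉ F0 → (q :: tabF tab0 q).Nodup ∧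
    ∀ r, parB (row0 q r) = if r ∈ q :: tabF tab0 q then 1 else 0 := by decide +kernel

theorem row1_par : ∀ q, q ∉ F1 → (q :: tabF tab1 q).Nodup ∧
    ∀ r, parB (row1 q r) = if r ∈ q :: tabF tab1 q then 1 else 0 := by decide +kernel

theorem row0_ok : ∀ q, q ∉ F0 → ∀ k : Fin 28, d4 (⟨-2, -2⟩ * ipE (B k) (row0 q)) = true := by decide +kernel

theorem row1_ok : ∀ q, q ∉ F1 → ∀ k : Fin 28, d4 (⟨0, -2⟩ * ipE (B k) (row1 q)) = true := by decide +kernel

theorem row2_ok : ∀ c ∈ rows2, ∀ k : Fin 28, d4 (⟨1, -1⟩ * ipE (B k) (mkV c)) = true := by decide +kernel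

theorem row3_ok : ∀ c ∈ rows3, ∀ k : Fin 28, d4 (⟨1, 0⟩ * ipE (B k) (mkV c)) = true := by decide +kernel

theorem row2_sep1 : ∀ p : RuIdx, ∃ c ∈ rows2, parB (mkV c p) = 1 := by decide +kernel

theorem row2_sep2 : ∀ p q : RuIdx, p ≠ q → ∃ c ∈ rows2, parB (mkV c p) + parB (mkV c q) = 1 := by decide +kernel

theorem row3_sep1 : ∀ p : RuIdx, ∃ c ∈ rows3, parB (mkV c p) = 1 := by decide +kernel

/-- The separating vector of two blocks. -/
def dblV (a b : Fin 7) : RuVec := mkV (dblL.getD (7 * a.val + b.val) zeroC)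

/-- The separating vector of one block. -/
def sglV (a : Fin 7) : RuVec := mkV (sglL.getD a.val zeroC)

theorem dbl_ok : ∀ a b : Fin 7, a < b → (∀ k : Fin 28, d4 (ipE (B k) (dblV a b)) = true) ∧
    (∀ q : RuIdx, (q.1 = a ∨ q.1 = b) → q ≠ (b, 3) → dblV a b q = 0) ∧ dblV a b (b, 3) = ⟨2, 0⟩ := by
  decide +kernel

theorem sgl_ok : ∀ a : Fin 7, (∀ k : Fin 28, d4 (ipE (B k) (sglV a)) = true) ∧
    (∀ q : RuIdx, q.1 = a → q ≠ (a, 3) → sglV a q = 0) ∧ sglV a (a, 3) = pi' := by
  decide +kernel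

theorem card_dbl : ∀ a b : Fin 7, a < b → (Finset.univ.filter (fun q : RuIdx => q.1 = a ∨ q.1 = b)).card = 8 := by
  decide +kernel

theorem card_sgl : ∀ a : Fin 7, (Finset.univ.filter (fun q : RuIdx => q.1 = a)).card = 4 := by
  decide +kernel

/-! ### From the lattice to the parity -/

theorem par_zero_of (a b : ℤ) (ha : a = 2 ∨ a = -2) (hb : b = 2 ∨ b = -2) {w : GaussianInt}
    (h : D4 (⟨a, b⟩ * w)) : par w = 0 := by
  have h1 := (d4_iff.1 h).1
  rw [Zsqrtd.re_mul] at h1
  have h2 : (2 : ℤ) ∣ w.re + w.im := by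
    rcases ha with rfl | rfl <;> rcases hb with rfl | rfl <;> simp only at h1 <;> omega
  exact (ZMod.intCast_zmod_eq_zero_iff_dvd _ 2).2 h2

theorem par_zero_of_two {z : GaussianInt} (h : D4 (z * ⟨2, 0⟩)) : par z = 0 := by
  have h0 := d4_iff.1 h
  have h1 := h0.1
  have h2 := h0.2
  rw [Zsqrtd.re_mul] at h1
  rw [Zsqrtd.im_mul] at h2
  simp only at h1 h2
  have h3 : (2 : ℤ) ∣ z.re + z.im := by omega
  exact (ZMod.intCast_zmod_eq_zero_iff_dvd _ 2).2 h3

theorem D4_lat {c : GaussianInt} {t : RuVec} (h : ∀ k : Fin 28, d4 (c * ipE (B k) t) = true) {x : RuVec}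
    (hx : x ∈ Lat) : D4 (c * ip x t) := by
  apply D4_of_basis _ hx
  intro k
  by_cases hk : k < 28
  · rw [ip_eq_ipE]
    exact D4_of_d4 (h ⟨k, hk⟩)
  · rw [B_eq_zero (not_lt.1 hk), ip_zero_left, mul_zero]
    exact D4_zero

theorem D4_lat' {t : RuVec} (h : ∀ k : Fin 28, d4 (ipE (B k) t) = true) {x : RuVec}
    (hx : x ∈ Lat) : D4 (ip x t) := by
  have h1 : ∀ k : Fin 28, d4 (1 * ipE (B k) t) = true := fun k => by rw [one_mul]; exact h k
  have h2 := D4_lat h1 hx
  rwa [one_mul] at h2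

theorem level0 {x : RuVec} (hx : x ∈ Lat) (q : RuIdx) (hq : q ∉ F0) : ∑ r, par (x r) * par (row0 q r) = 0 := by
  rw [← par_ip]
  exact par_zero_of (-2) (-2) (Or.inr rfl) (Or.inr rfl) (D4_lat (row0_ok q hq) hx)

theorem level1 {y : RuVec} (hx : pi' • y ∈ Lat) (q : RuIdx) (hq : q ∉ F1) : ∑ r, par (y r) * par (row1 q r) = 0 := by
  rw [← par_ip]
  have h1 := D4_lat (row1_ok q hq) hx
  rw [ip_pi_left, ← mul_assoc] at h1
  exact par_zero_of 2 (-2) (Or.inl rfl) (Or.inr rfl) h1

theorem level2 {y : RuVec} (hx : pi' • (pi' • y) ∈ Lat) {c : ℕ} (hc : c ∈ rows2) :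
    ∑ r, par (y r) * par (mkV c r) = 0 := by
  rw [← par_ip]
  have h1 := D4_lat (row2_ok c hc) hx
  rw [ip_pi_left, ip_pi_left, ← mul_assoc, ← mul_assoc] at h1
  exact par_zero_of 2 2 (Or.inl rfl) (Or.inl rfl) h1

theorem level3 {y : RuVec} (hx : pi' • (pi' • (pi' • y)) ∈ Lat) {c : ℕ} (hc : c ∈ rows3) :
    ∑ r, par (y r) * par (mkV c r) = 0 := by
  rw [← par_ip]
  have h1 := D4_lat (row3_ok c hc) hx
  rw [ip_pi_left, ip_pi_left, ip_pi_left, ← mul_assoc, ← mul_assoc, ← mul_assoc] at h1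
  exact par_zero_of (-2) 2 (Or.inr rfl) (Or.inl rfl) h1

/-! ### Small weight -/

theorem sum_eq_filter (n c : RuIdx → ZMod 2) :
    ∑ r, n r * c r = ∑ r ∈ Finset.univ.filter (fun r => n r = 1), c r := by
  rw [Finset.sum_filter]
  apply Finset.sum_congr rfl
  intro r _
  rcases zmod2_cases (n r) with h | h
  · rw [h]
    simp
  · rw [h]
    simp

theorem eq_zero_of_filter_empty {n : RuIdx → ZMod 2} (h : wt n = 0) (q : RuIdx) : n q = 0 := by
  rcases zmod2_cases (n q) with h1 | h1
  · exact h1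
  · exfalso
    have h2 : q ∈ Finset.univ.filter (fun r => n r = 1) := by simp [h1]
    have h3 := Finset.card_eq_zero.1 h
    rw [h3] at h2
    simp at h2

theorem small1 {n : RuIdx → ZMod 2} {cs : List ℕ} (hn : ∀ c ∈ cs, ∑ r, n r * par (mkV c r) = 0)
    (h1 : ∀ p : RuIdx, ∃ c ∈ cs, parB (mkV c p) = 1) (hw : wt n ≤ 1) (q : RuIdx) : n q = 0 := by
  have hw' : wt n = 0 ∨ wt n = 1 := by omega
  rcases hw' with hw' | hw'
  · exact eq_zero_of_filter_empty hw' q
  · exfalso
    obtain ⟨p, hp⟩ := Finset.card_eq_one.1 hw'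
    obtain ⟨c, hc, hcp⟩ := h1 p
    have h2 := hn c hc
    rw [sum_eq_filter, hp, Finset.sum_singleton, ← parB_eq, hcp] at h2
    exact absurd h2 (by decide)

theorem small2 {n : RuIdx → ZMod 2} {cs : List ℕ} (hn : ∀ c ∈ cs, ∑ r, n r * par (mkV c r) = 0)
    (h1 : ∀ p : RuIdx, ∃ c ∈ cs, parB (mkV c p) = 1)
    (h2 : ∀ p q : RuIdx, p ≠ q → ∃ c ∈ cs, parB (mkV c p) + parB (mkV c q) = 1)
    (hw : wt n ≤ 2) (q : RuIdx) : n q = 0 := by
  by_cases hw1 : wt n ≤ 1
  · exact small1 hn h1 hw1 q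
  · exfalso
    have hw' : wt n = 2 := by omega
    obtain ⟨p, p', hne, hp⟩ := Finset.card_eq_two.1 hw'
    obtain ⟨c, hc, hcp⟩ := h2 p p' hne
    have h3 := hn c hc
    rw [sum_eq_filter, hp, Finset.sum_pair hne, ← parB_eq, ← parB_eq, hcp] at h3
    exact absurd h3 (by decide)

/-! ### No vector of stored norm 8 -/

theorem even_vec {y : RuVec} (h : ∀ q, par (y q) = 0) : ∃ z, y = pi' • z := exists_vec_pi h

theorem level3_final {y : RuVec} (hx : pi' • (pi' • (pi' • y)) ∈ Lat) (hy : ruNorm y = 1) : False := by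
  have h1 : ∀ q, par (y q) = 0 := by
    apply small1 (cs := rows3) (n := fun q => par (y q)) (fun c hc => level3 hx hc) row3_sep1
    have := wt_par_le y
    omega
  obtain ⟨z, rfl⟩ := even_vec h1
  rw [ruNorm_pi] at hy
  omega

theorem level2_final {y : RuVec} (hx : pi' • (pi' • y) ∈ Lat) (hy : ruNorm y = 2) : False := by
  have h1 : ∀ q, par (y q) = 0 := by
    apply small2 (cs := rows2) (n := fun q => par (y q)) (fun c hc => level2 hx hc) row2_sep1 row2_sep2
    have := wt_par_le y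
    omega
  obtain ⟨z, rfl⟩ := even_vec h1
  rw [ruNorm_pi] at hy
  exact level3_final hx (by omega)

theorem level1_final {y : RuVec} (hx : pi' • y ∈ Lat) (hy : ruNorm y = 4) : False := by
  have hg : good1 (fun q => par (y q)) = true :=
    decode (rowV := row1) tab1_free tab1_sub
      (fun q hq => ⟨(row1_par q hq).1, fun r => by rw [← parB_eq, (row1_par q hq).2 r]⟩) dec1_ok _
      (fun q hq => level1 hx q hq)
  have hg' := of_decide_eq_true hg
  have hw := wt_par_le y
  rcases hg' with h0 | h0 | ⟨a, hS⟩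
  · obtain ⟨z, rfl⟩ := even_vec (fun q => congrFun h0 q)
    rw [ruNorm_pi] at hy
    exact level2_final hx (by omega)
  · omega
  · have hw4 : wt (fun q => par (y q)) = 4 := by
      rw [wt, Finset.filter_congr (fun q _ => hS q)]
      exact card_sgl a
    have hz : ∀ {q}, par (y q) = 0 → y q = 0 := fun hq => eq_zero_of_wt_eq (by rw [hw4, hy]; rfl) hq
    obtain ⟨hk, hv, hp⟩ := sgl_ok a
    have hD := D4_lat' hk hx
    rw [ip_pi_left] at hD
    have h1 : ip y (sglV a) = y (a, 3) * star (sglV a (a, 3)) := by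
      apply Finset.sum_eq_single (a, 3)
      · intro q _ hq
        by_cases hqa : q.1 = a
        · rw [hv q hqa hq]
          simp
        · have h2 : par (y q) = 0 := by
            rcases zmod2_cases (par (y q)) with h3 | h3
            · exact h3
            · exact absurd ((hS q).1 h3) hqa
          rw [hz h2, zero_mul]
      · intro h
        exact absurd (Finset.mem_univ _) h
    rw [h1, hp] at hD
    have h3 : pi' * (y (a, 3) * star pi') = y (a, 3) * ⟨2, 0⟩ := by
      rw [mul_left_comm]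
      congr 1
    rw [h3] at hD
    have h4 := par_zero_of_two hD
    have h5 : par (y (a, 3)) = 1 := (hS (a, 3)).2 rfl
    rw [h4] at h5
    exact absurd h5 (by decide)

theorem no_norm8 {x : RuVec} (hx : x ∈ Lat) : ruNorm x ≠ 8 := by
  intro h8
  have hg : good0 (fun q => par (x q)) = true :=
    decode (rowV := row0) tab0_free tab0_sub
      (fun q hq => ⟨(row0_par q hq).1, fun r => by rw [← parB_eq, (row0_par q hq).2 r]⟩) dec0_ok _
      (fun q hq => level0 hx q hq)
  have hg' := of_decide_eq_true hg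
  have hw := wt_par_le x
  rcases hg' with h0 | h0 | ⟨a, b, hab, hS⟩
  · obtain ⟨z, rfl⟩ := even_vec (fun q => congrFun h0 q)
    rw [ruNorm_pi] at h8
    exact level1_final hx (by omega)
  · omega
  · have hw8 : wt (fun q => par (x q)) = 8 := by
      rw [wt, Finset.filter_congr (fun q _ => hS q)]
      exact card_dbl a b hab
    have hz : ∀ {q}, par (x q) = 0 → x q = 0 := fun hq => eq_zero_of_wt_eq (by rw [hw8, h8]; rfl) hq
    obtain ⟨hk, hv, hp⟩ := dbl_ok a b hab
    have hD := D4_lat' hk hx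
    have h1 : ip x (dblV a b) = x (b, 3) * star (dblV a b (b, 3)) := by
      apply Finset.sum_eq_single (b, 3)
      · intro q _ hq
        by_cases hqa : q.1 = a ∨ q.1 = b
        · rw [hv q hqa hq]
          simp
        · have h2 : par (x q) = 0 := by
            rcases zmod2_cases (par (x q)) with h3 | h3
            · exact h3
            · exact absurd ((hS q).1 h3) hqa
          rw [hz h2, zero_mul]
      · intro h
        exact absurd (Finset.mem_univ _) h
    rw [h1, hp] at hD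
    have h4 := par_zero_of_two hD
    have h5 : par (x (b, 3)) = 1 := (hS (b, 3)).2 (Or.inr rfl)
    rw [h4] at h5
    exact absurd h5 (by decide)

/-- The statement on the lattice. -/
theorem main : (∀ x ∈ ruLattice, (8 : ℤ) ∣ ruNorm x) ∧ (∀ x ∈ ruLattice, ruNorm x ≠ 8) ∧
    (∀ x ∈ ruLattice, x ≠ 0 → 16 ≤ ruNorm x) ∧ ∃ x ∈ ruLattice, ruNorm x = 16 := by
  refine ⟨fun x hx => eight_dvd_norm (ruLattice_le x hx), fun x hx => no_norm8 (ruLattice_le x hx), ?_, ?_⟩
  · intro x hx hx0
    have h1 := eight_dvd_norm (ruLattice_le x hx)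
    have h2 := no_norm8 (ruLattice_le x hx)
    have h3 := ruNorm_nonneg x
    have h4 : ruNorm x ≠ 0 := by
      intro h5
      apply hx0
      funext q
      have h6 := (Finset.sum_eq_zero_iff_of_nonneg (fun q _ => norm_nonneg' (x q))).1 h5 q (Finset.mem_univ q)
      exact norm_eq_zero' h6
    omega
  · refine ⟨ruTable[0]'(by decide +kernel), ?_, ?_⟩
    · rw [ruLattice, AddSubgroup.mem_sInf]
      intro L hL
      exact hL.1 _ (List.getElem_mem _)
    · rw [ruNorm_eq_ip, ip_eq_ipE]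
      decide +kernel

end Cfsg.Agent.Lib.RuLat
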