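import Cfsg.Agent.Lib.RuLat.Data
import Cfsg.Prelude.Def_Spor_Ru

/-!
# The lattice of the Rudvalis group: norms

The lattice lies in the span of an explicit triangular basis, whose Hermitian products are divisible by 4 and whose
norms are divisible by 8.  A parity analysis (modulo `1 + i`) excludes the vectors of stored norm 8.
-/

set_option autoImplicit false
set_option linter.unusedSectionVars false
set_option linter.constructorNameAsVariable false

namespace Cfsg.Agent.Lib.RuLat

open Cfsg.Spor

/-! ### Vectors from numbers -/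

/-- Position of a coordinate. -/
def ixN (p : RuIdx) : ℕ := 4 * p.1.val + p.2.val

/-- Coordinate from its position. -/
def ixOf (k : ℕ) : RuIdx := (Fin.ofNat 7 (k / 4), Fin.ofNat 4 (k % 4))

/-- Decoding an integer. -/
def decI (n : ℕ) : ℤ := (n : ℤ) - 512

/-- Decoding a Gaussian integer. -/
def decG (n : ℕ) : GaussianInt := ⟨decI (n % 1024), decI (n / 1024 % 1024)⟩

/-- Decoding a vector. -/
def mkV (c : ℕ) : RuVec := fun p => decG (Nat.shiftRight c (20 * ixN p))

/-- The basis vectors. -/
def B (k : ℕ) : RuVec := mkV (bD.getD k zeroC)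

/-! ### The Hermitian product -/

/-- The Hermitian product. -/
def ip (u v : RuVec) : GaussianInt := ∑ p, u p * star (v p)

/-- One block of the Hermitian product. -/
def blockE (u v : RuVec) (n : Fin 7) : GaussianInt :=
  u (n, 0) * star (v (n, 0)) + u (n, 1) * star (v (n, 1)) + u (n, 2) * star (v (n, 2)) + u (n, 3) * star (v (n, 3))

/-- The Hermitian product, explicitly. -/
def ipE (u v : RuVec) : GaussianInt :=
  blockE u v 0 + blockE u v 1 + blockE u v 2 + blockE u v 3 + blockE u v 4 + blockE u v 5 + blockE u v 6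

theorem ip_eq_ipE (u v : RuVec) : ip u v = ipE u v := by
  simp only [ip, ipE, blockE, Fintype.sum_prod_type, Fin.sum_univ_seven, Fin.sum_univ_four]

theorem ip_add_left (x y z : RuVec) : ip (x + y) z = ip x z + ip y z := by
  simp only [ip, Pi.add_apply, add_mul, Finset.sum_add_distrib]

theorem ip_smul_left (c : GaussianInt) (x z : RuVec) : ip (c • x) z = c * ip x z := by
  simp only [ip, Pi.smul_apply, smul_eq_mul, Finset.mul_sum, mul_assoc]

theorem ip_zero_left (z : RuVec) : ip 0 z = 0 := by
  simp [ip]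

theorem ip_star (x y : RuVec) : star (ip x y) = ip y x := by
  simp only [ip, star_sum, star_mul', star_star]
  apply Finset.sum_congr rfl
  intro p _
  exact mul_comm _ _

/-! ### Divisibility by 4 -/

/-- Divisibility by 4 as a Boolean. -/
def d4 (z : GaussianInt) : Bool := (z.re % 4 == 0) && (z.im % 4 == 0)

/-- Divisibility by 4. -/
def D4 (z : GaussianInt) : Prop := ((4 : ℤ) : GaussianInt) ∣ z

theorem d4_iff {z : GaussianInt} : D4 z ↔ (4 ∣ z.re ∧ 4 ∣ z.im) := Zsqrtd.intCast_dvd _ _

theorem D4_of_d4 {z : GaussianInt} (h : d4 z = true) : D4 z := by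
  rw [d4_iff]
  simp only [d4, Bool.and_eq_true, beq_iff_eq] at h
  exact ⟨Int.dvd_of_emod_eq_zero h.1, Int.dvd_of_emod_eq_zero h.2⟩

theorem D4.add {a b : GaussianInt} (ha : D4 a) (hb : D4 b) : D4 (a + b) := dvd_add ha hb

theorem D4.mul_left (c : GaussianInt) {a : GaussianInt} (ha : D4 a) : D4 (c * a) := Dvd.dvd.mul_left ha c

theorem D4.star {a : GaussianInt} (ha : D4 a) : D4 (star a) := by
  rw [d4_iff] at ha ⊢
  simpa using ha

theorem D4_zero : D4 0 := dvd_zero _

/-! ### The span of the basis -/

/-- The span of the basis. -/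
def Lat : Submodule GaussianInt RuVec := Submodule.span GaussianInt (Set.range B)

theorem B_mem (k : ℕ) : B k ∈ Lat := Submodule.subset_span ⟨k, rfl⟩

theorem length_bD : bD.length = 28 := by decide +kernel

theorem mkV_zeroC : mkV zeroC = 0 := by decide +kernel

theorem B_eq_zero {k : ℕ} (h : 28 ≤ k) : B k = 0 := by
  rw [B, List.getD_eq_default _ _ (by rw [length_bD]; exact h), mkV_zeroC]

/-- The products of the basis vectors. -/
theorem pair_B_check : ∀ j k : Fin 28, d4 (ipE (B j) (B k)) = true := by decide +kernel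

theorem pair_B (j k : ℕ) : D4 (ip (B j) (B k)) := by
  by_cases hj : j < 28
  · by_cases hk : k < 28
    · rw [ip_eq_ipE]
      exact D4_of_d4 (pair_B_check ⟨j, hj⟩ ⟨k, hk⟩)
    · rw [B_eq_zero (not_lt.1 hk), ← ip_star, ip_zero_left, star_zero]
      exact D4_zero
  · rw [B_eq_zero (not_lt.1 hj), ip_zero_left]
    exact D4_zero

/-- A linear condition with values divisible by 4 extends from the basis to the span. -/
theorem D4_of_basis {c : GaussianInt} {t : RuVec} (h : ∀ k, D4 (c * ip (B k) t)) {x : RuVec} (hx : x ∈ Lat) :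
    D4 (c * ip x t) := by
  induction hx using Submodule.span_induction with
  | mem x hx =>
    obtain ⟨k, rfl⟩ := hx
    exact h k
  | zero =>
    rw [ip_zero_left, mul_zero]
    exact D4_zero
  | add x y _ _ h1 h2 =>
    rw [ip_add_left, mul_add]
    exact h1.add h2
  | smul a x _ h1 =>
    rw [ip_smul_left, mul_left_comm]
    exact h1.mul_left a

theorem D4_one_mul {z : GaussianInt} : D4 (1 * z) ↔ D4 z := by rw [one_mul]

theorem pair_Lat {x y : RuVec} (hx : x ∈ Lat) (hy : y ∈ Lat) : D4 (ip x y) := by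
  have h1 : ∀ k, D4 (1 * ip x (B k)) := fun k => D4_one_mul.2 (D4_of_basis (c := 1) (t := B k)
    (fun j => D4_one_mul.2 (pair_B j k)) hx |> D4_one_mul.1)
  have h2 : ∀ k, D4 (1 * ip (B k) x) := fun k => by
    rw [one_mul, ← ip_star]
    exact (D4_one_mul.1 (h1 k)).star
  have h3 := D4_of_basis h2 hy
  rw [one_mul, ← ip_star] at h3
  have h4 := h3.star
  rwa [star_star] at h4

/-! ### The norm -/

theorem re_sum' {ι : Type*} (t : Finset ι) (f : ι → GaussianInt) : (∑ p ∈ t, f p).re = ∑ p ∈ t, (f p).re := by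
  classical
  induction t using Finset.induction_on with
  | empty => simp
  | insert a t ha ih => rw [Finset.sum_insert ha, Finset.sum_insert ha, Zsqrtd.re_add, ih]

theorem ruNorm_add (x y : RuVec) : ruNorm (x + y) = ruNorm x + ruNorm y + 2 * (ip x y).re := by
  have h1 : ∀ a b : GaussianInt, (a + b).norm = a.norm + b.norm + 2 * (a * star b).re := by
    intro a b
    simp only [Zsqrtd.norm_def, Zsqrtd.re_add, Zsqrtd.im_add, Zsqrtd.re_mul, Zsqrtd.re_star, Zsqrtd.im_star]
    ring
  simp only [ruNorm, ip, Pi.add_apply, h1, Finset.sum_add_distrib, re_sum', Finset.mul_sum]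

theorem ruNorm_smul (c : GaussianInt) (x : RuVec) : ruNorm (c • x) = c.norm * ruNorm x := by
  simp only [ruNorm, Pi.smul_apply, smul_eq_mul, Zsqrtd.norm_mul, Finset.mul_sum]

theorem ruNorm_eq_ip (x : RuVec) : ruNorm x = (ip x x).re := by
  have h1 : ∀ a : GaussianInt, a.norm = (a * star a).re := by
    intro a
    simp only [Zsqrtd.norm_def, Zsqrtd.re_mul, Zsqrtd.re_star, Zsqrtd.im_star]
    ring
  simp only [ruNorm, ip, re_sum', h1]

/-- The norms of the basis vectors. -/
theorem norm_B_check : ∀ k : Fin 28, (ipE (B k) (B k)).re % 8 = 0 := by decide +kernel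

theorem eight_dvd_norm_B (k : ℕ) : (8 : ℤ) ∣ ruNorm (B k) := by
  by_cases hk : k < 28
  · rw [ruNorm_eq_ip, ip_eq_ipE]
    exact Int.dvd_of_emod_eq_zero (norm_B_check ⟨k, hk⟩)
  · rw [B_eq_zero (not_lt.1 hk)]
    simp [ruNorm]

theorem eight_dvd_norm {x : RuVec} (hx : x ∈ Lat) : (8 : ℤ) ∣ ruNorm x := by
  induction hx using Submodule.span_induction with
  | mem x hx =>
    obtain ⟨k, rfl⟩ := hx
    exact eight_dvd_norm_B k
  | zero => simp [ruNorm]
  | add x y hx hy h1 h2 =>
    rw [ruNorm_add]
    have h3 := (d4_iff.1 (pair_Lat hx hy)).1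
    omega
  | smul a x _ h1 =>
    rw [ruNorm_smul]
    exact Dvd.dvd.mul_left h1 _

/-! ### The lattice of the definitions lies in the span -/

/-- A linear combination of the basis vectors. -/
def lcAux (c : ℕ) : ℕ → RuVec
  | 0 => 0
  | k + 1 => lcAux c k + decG (Nat.shiftRight c (20 * k)) • B k

theorem lcAux_mem (c k : ℕ) : lcAux c k ∈ Lat := by
  induction k with
  | zero => exact Lat.zero_mem
  | succ k ih => exact Lat.add_mem ih (Lat.smul_mem _ (B_mem k))

/-- The right multiplication by `j` as a linear map. -/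
def rjL : RuVec →ₗ[GaussianInt] RuVec where
  toFun := ruRj
  map_add' x y := by
    funext ⟨n, t⟩
    fin_cases t <;> simp [ruRj] <;> ring
  map_smul' c x := by
    funext ⟨n, t⟩
    fin_cases t <;> simp [ruRj] <;> ring

/-- The right multiplication by `k` as a linear map. -/
def rkL : RuVec →ₗ[GaussianInt] RuVec where
  toFun := ruRk
  map_add' x y := by
    funext ⟨n, t⟩
    fin_cases t <;> simp [ruRk] <;> ring
  map_smul' c x := by
    funext ⟨n, t⟩
    fin_cases t <;> simp [ruRk] <;> ring

/-- The sign change as a linear map. -/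
def signL : RuVec →ₗ[GaussianInt] RuVec where
  toFun := ruSign
  map_add' x y := by
    funext p
    simp only [ruSign, Pi.add_apply]
    split_ifs <;> ring
  map_smul' c x := by
    funext p
    simp only [ruSign, Pi.smul_apply, smul_eq_mul, RingHom.id_apply]
    split_ifs <;> ring

/-- The shift as a linear map. -/
def shiftL : RuVec →ₗ[GaussianInt] RuVec where
  toFun := ruShift
  map_add' x y := by
    funext p
    rfl
  map_smul' c x := by
    funext p
    rfl

theorem map_mem_of_basis (f : RuVec →ₗ[GaussianInt] RuVec) (h : ∀ k, f (B k) ∈ Lat) {x : RuVec} (hx : x ∈ Lat) :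
    f x ∈ Lat := by
  have h1 : Lat ≤ Lat.comap f := by
    refine (Submodule.span_le).2 ?_
    rintro _ ⟨k, rfl⟩
    exact h k
  exact h1 hx

set_option maxRecDepth 1000000 in
theorem rj_check : ∀ k : Fin 28, ruRj (B k) = lcAux (cRj.getD k zeroC) 28 := by decide +kernel

set_option maxRecDepth 1000000 in
theorem rk_check : ∀ k : Fin 28, ruRk (B k) = lcAux (cRk.getD k zeroC) 28 := by decide +kernel

set_option maxRecDepth 1000000 in
theorem sign_check : ∀ k : Fin 28, ruSign (B k) = lcAux (cSign.getD k zeroC) 28 := by decide +kernel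

set_option maxRecDepth 1000000 in
theorem shift_check : ∀ k : Fin 28, ruShift (B k) = lcAux (cShift.getD k zeroC) 28 := by decide +kernel

set_option maxRecDepth 1000000 in
theorem gens_check : ruTable = (List.range 20).map (fun i => lcAux (cGens.getD i zeroC) 28) := by decide +kernel

theorem map_B_mem (f : RuVec →ₗ[GaussianInt] RuVec) (c : List ℕ)
    (h : ∀ k : Fin 28, f (B k) = lcAux (c.getD k zeroC) 28) (k : ℕ) : f (B k) ∈ Lat := by
  by_cases hk : k < 28
  · have := h ⟨k, hk⟩
    rw [show (B k) = B (⟨k, hk⟩ : Fin 28) from rfl, this]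
    exact lcAux_mem _ _
  · rw [B_eq_zero (not_lt.1 hk), map_zero]
    exact Lat.zero_mem

theorem Lat_mem_closed : Lat.toAddSubgroup ∈ ruClosed := by
  refine ⟨?_, ?_⟩
  · intro v hv
    rw [gens_check] at hv
    obtain ⟨i, -, rfl⟩ := List.mem_map.1 hv
    exact lcAux_mem _ _
  · intro v hv
    have hv' : v ∈ Lat := hv
    refine ⟨Lat.smul_mem _ hv', ?_, ?_, ?_, ?_⟩
    · exact map_mem_of_basis rjL (map_B_mem rjL cRj rj_check) hv'
    · exact map_mem_of_basis rkL (map_B_mem rkL cRk rk_check) hv'
    · exact map_mem_of_basis signL (map_B_mem signL cSign sign_check) hv'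
    · exact map_mem_of_basis shiftL (map_B_mem shiftL cShift shift_check) hv'

theorem ruLattice_le : ∀ x ∈ ruLattice, x ∈ Lat := by
  intro x hx
  exact (AddSubgroup.mem_sInf.1 hx) _ Lat_mem_closed

end Cfsg.Agent.Lib.RuLat
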