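import Cfsg.Agent.Lib.RuLat.Basic

/-!
# The lattice of the Rudvalis group: no vectors of stored norm 8
-/

set_option autoImplicit false
set_option linter.unusedSectionVars false
set_option linter.constructorNameAsVariable false

namespace Cfsg.Agent.Lib.RuLat

open Cfsg.Spor

/-! ### The parity -/

/-- The reduction modulo `1 + i`. -/
def par (z : GaussianInt) : ZMod 2 := ((z.re + z.im : ℤ) : ZMod 2)

theorem two_zmod : (2 : ZMod 2) = 0 := rfl

theorem par_add (a b : GaussianInt) : par (a + b) = par a + par b := by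
  simp only [par, Zsqrtd.re_add, Zsqrtd.im_add]
  push_cast
  ring

theorem par_mul (a b : GaussianInt) : par (a * b) = par a * par b := by
  simp only [par, Zsqrtd.re_mul, Zsqrtd.im_mul]
  push_cast
  linear_combination (-((a.im : ZMod 2) * (b.im : ZMod 2))) * two_zmod

theorem par_star (a : GaussianInt) : par (star a) = par a := by
  simp only [par, Zsqrtd.re_star, Zsqrtd.im_star]
  push_cast
  linear_combination (-(a.im : ZMod 2)) * two_zmod

theorem par_zero : par 0 = 0 := by simp [par]

theorem par_sum {ι : Type*} (t : Finset ι) (f : ι → GaussianInt) : par (∑ p ∈ t, f p) = ∑ p ∈ t, par (f p) := by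
  classical
  induction t using Finset.induction_on with
  | empty => simp [par_zero]
  | insert a t ha ih => rw [Finset.sum_insert ha, Finset.sum_insert ha, par_add, ih]

theorem par_ip (y t : RuVec) : par (ip y t) = ∑ r, par (y r) * par (t r) := by
  simp only [ip, par_sum, par_mul, par_star]

theorem zmod2_cases : ∀ a : ZMod 2, a = 0 ∨ a = 1 := by decide

/-- The element `1 + i`. -/
def pi' : GaussianInt := ⟨1, 1⟩

theorem exists_pi_mul {z : GaussianInt} (h : par z = 0) : ∃ w, z = pi' * w := by
  have h1 : (2 : ℤ) ∣ z.re + z.im := (ZMod.intCast_zmod_eq_zero_iff_dvd _ 2).1 h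
  obtain ⟨k, hk⟩ := h1
  refine ⟨⟨k, k - z.re⟩, ?_⟩
  apply Zsqrtd.ext
  · simp only [pi', Zsqrtd.re_mul]
    ring
  · simp only [pi', Zsqrtd.im_mul]
    linarith

theorem norm_pi_mul (w : GaussianInt) : (pi' * w).norm = 2 * w.norm := by
  rw [Zsqrtd.norm_mul]
  rfl

theorem ruNorm_pi (y : RuVec) : ruNorm (pi' • y) = 2 * ruNorm y := ruNorm_smul _ _ |>.trans rfl

theorem ip_pi_left (y t : RuVec) : ip (pi' • y) t = pi' * ip y t := ip_smul_left _ _ _

theorem exists_vec_pi {x : RuVec} (h : ∀ q, par (x q) = 0) : ∃ y, x = pi' • y := by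
  choose y hy using fun q => exists_pi_mul (h q)
  exact ⟨y, funext hy⟩

theorem norm_nonneg' (z : GaussianInt) : 0 ≤ z.norm := Zsqrtd.norm_nonneg (by norm_num) z

theorem norm_eq_zero' {z : GaussianInt} (h : z.norm = 0) : z = 0 :=
  (Zsqrtd.norm_eq_zero_iff (by norm_num) z).1 h

theorem ruNorm_nonneg (y : RuVec) : 0 ≤ ruNorm y := Finset.sum_nonneg fun p _ => norm_nonneg' _

/-! ### The weight -/

/-- The weight of a parity vector. -/
def wt (n : RuIdx → ZMod 2) : ℕ := (Finset.univ.filter (fun q => n q = 1)).card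

theorem wt_eq_sum (n : RuIdx → ZMod 2) : (wt n : ℤ) = ∑ q, (if n q = 1 then (1 : ℤ) else 0) := by
  rw [wt, Finset.card_filter]
  push_cast
  rfl

theorem ind_le_norm (z : GaussianInt) : (if par z = 1 then (1 : ℤ) else 0) ≤ z.norm := by
  split_ifs with h
  · have h1 := norm_nonneg' z
    by_contra h2
    have h3 : z.norm = 0 := by omega
    rw [norm_eq_zero' h3, par_zero] at h
    exact absurd h (by decide)
  · exact norm_nonneg' z

theorem wt_par_le (y : RuVec) : (wt (fun q => par (y q)) : ℤ) ≤ ruNorm y := by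
  rw [wt_eq_sum, ruNorm]
  exact Finset.sum_le_sum fun q _ => ind_le_norm (y q)

theorem eq_zero_of_wt_eq {y : RuVec} (h : (wt (fun q => par (y q)) : ℤ) = ruNorm y) {q : RuIdx} (hq : par (y q) = 0) :
    y q = 0 := by
  rw [wt_eq_sum, ruNorm] at h
  have h1 : ∑ q, ((y q).norm - (if par (y q) = 1 then (1 : ℤ) else 0)) = 0 := by
    rw [Finset.sum_sub_distrib, h, sub_self]
  have h2 := (Finset.sum_eq_zero_iff_of_nonneg (fun q _ => sub_nonneg.2 (ind_le_norm (y q)))).1 h1 q (Finset.mem_univ q)
  rw [hq] at h2
  have h3 : (0 : ZMod 2) ≠ 1 := by decide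
  rw [if_neg h3, sub_zero] at h2
  exact norm_eq_zero' h2

/-! ### Decoding -/

/-- Changing one value of a parity vector. -/
def upd (u : RuIdx → ZMod 2) (f : RuIdx) (v : ZMod 2) : RuIdx → ZMod 2 := fun q => if q = f then v else u q

/-- A check for all assignments on a list of coordinates. -/
def allAssign (P : (RuIdx → ZMod 2) → Bool) : List RuIdx → (RuIdx → ZMod 2) → Bool
  | [], u => P u
  | f :: F, u => allAssign P F (upd u f 0) && allAssign P F (upd u f 1)

theorem allAssign_spec {P : (RuIdx → ZMod 2) → Bool} : ∀ (F : List RuIdx) (u : RuIdx → ZMod 2),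
    allAssign P F u = true → ∀ n, (∀ q, q ∉ F → n q = u q) → P n = true := by
  intro F
  induction F with
  | nil =>
    intro u h n hn
    have : n = u := funext fun q => hn q (by simp)
    rw [this]
    exact h
  | cons f F ih =>
    intro u h n hn
    simp only [allAssign, Bool.and_eq_true] at h
    have key : ∀ q, q ∉ F → n q = upd u f (n f) q := by
      intro q hq
      simp only [upd]
      split_ifs with hqf
      · rw [hqf]
      · exact hn q (by simp [hqf, hq])
    rcases zmod2_cases (n f) with h0 | h0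
    · exact ih _ h.1 n (fun q hq => by rw [key q hq, h0])
    · exact ih _ h.2 n (fun q hq => by rw [key q hq, h0])

/-- The coordinates in the expression of a coordinate. -/
def tabF (tab : List (List ℕ)) (q : RuIdx) : List RuIdx := (tab.getD (ixN q) []).map ixOf

/-- The completion of an assignment of the free coordinates. -/
def compl (tab : List (List ℕ)) (u : RuIdx → ZMod 2) : RuIdx → ZMod 2 := fun q => ((tabF tab q).map u).sum

theorem sum_ind_list {l : List RuIdx} (hl : l.Nodup) (n : RuIdx → ZMod 2) :
    ∑ r, n r * (if r ∈ l then (1 : ZMod 2) else 0) = (l.map n).sum := by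
  have h1 : ∀ r, n r * (if r ∈ l then (1 : ZMod 2) else 0) = if r ∈ l.toFinset then n r else 0 := by
    intro r
    simp [List.mem_toFinset]
  simp only [h1]
  rw [Finset.sum_ite_mem, Finset.univ_inter, List.sum_toFinset _ hl]

theorem eq_of_add_eq_zero' : ∀ a b : ZMod 2, a + b = 0 → a = b := by decide

/-- The parity vectors with the conditions of a level. -/
theorem decode {F : List RuIdx} {tab : List (List ℕ)} {rowV : RuIdx → RuVec}
    (h1 : ∀ q, q ∈ F → tabF tab q = [q]) (h2 : ∀ q, ∀ f ∈ tabF tab q, f ∈ F)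
    (h3 : ∀ q, q ∉ F → (q :: tabF tab q).Nodup ∧ ∀ r, par (rowV q r) = if r ∈ q :: tabF tab q then 1 else 0)
    {good : (RuIdx → ZMod 2) → Bool} (h4 : allAssign (fun u => good (compl tab u)) F 0 = true)
    (n : RuIdx → ZMod 2) (hn : ∀ q, q ∉ F → ∑ r, n r * par (rowV q r) = 0) : good n = true := by
  classical
  have hn2 : ∀ q, n q = ((tabF tab q).map n).sum := by
    intro q
    by_cases hq : q ∈ F
    · rw [h1 q hq]
      simp
    · obtain ⟨h5, h6⟩ := h3 q hq
      have h7 := hn q hq
      simp only [h6] at h7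
      rw [sum_ind_list h5, List.map_cons, List.sum_cons] at h7
      exact eq_of_add_eq_zero' _ _ h7
  let n' : RuIdx → ZMod 2 := fun q => if q ∈ F then n q else 0
  have h8 := allAssign_spec F 0 h4 n' (fun q hq => by simp [n', hq])
  have h9 : compl tab n' = n := by
    funext q
    rw [hn2 q]
    show ((tabF tab q).map n').sum = _
    congr 1
    apply List.map_congr_left
    intro f hf
    simp [n', h2 q f hf]
  rw [h9] at h8
  exact h8

end Cfsg.Agent.Lib.RuLat
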